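import Groth.Agent.Fano.K723.LinDef
import Groth.Agent.CurvSt.K333.StableOpen
import Groth.Agent.Dix.EtMinF

/-!
# Components with three special points near a stable curve (S16940, node M2)

* `genLocus_of_isField`: on a scheme whose global functions are a field, a section of a module with a global generator which
  generates at one point generates everywhere;
* `range_subset_genLocus`: the same along a closed subset with constant functions;
* `notMem_of_generated`: a component along which the modules of three divisors are trivial contains none of their points;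
* `triv3_of_iso`: over an open on which the pointed curves are stable and the modules are isomorphic, every component of a geometric
  fibre on which they are generated by one section has three special points;
* `triv3_near_of`: the same near a point.
-/

set_option autoImplicit false

universe u

open CategoryTheory CategoryTheory.Limits AlgebraicGeometry TopologicalSpace

namespace K203.KonStab

open K390.PnSec Groth.Agent.Fdesc.LocGen K505.KonDef K723.LinDef

section Const

/-- On a scheme whose global functions are a field, a section of a module with a global generator which generates at one point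
generates everywhere. -/
theorem genLocus_of_isField {P : Scheme.{u}} (hP : IsField Γ(P, ⊤)) {M : P.Modules} {g : Γ(M, ⊤)} (hg : IsGen g)
    (s : Γ(M, ⊤)) (x : P) (hx : x ∈ CohB1.genLocus M (homOf s)) : CohB1.genLocus M (homOf s) = ⊤ := by
  obtain ⟨c, rfl⟩ := hg.exists_eq s
  by_cases hc : c = 0
  · subst hc
    exfalso
    have h1 := isGen_sec_genLocus (homOf ((0 : Γ(P, ⊤)) • g))
    generalize CohB1.genLocus M (homOf ((0 : Γ(P, ⊤)) • g)) = U at hx h1
    rw [sec_homOf, zero_smul, map_zero] at h1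
    have h2 : (1 : Γ(P, U)) = 0 := h1.ext (by rw [smul_zero, smul_zero])
    have h3 := congrArg (P.presheaf.germ U x hx).hom h2
    rw [map_one, map_zero] at h3
    exact one_ne_zero h3
  · obtain ⟨d, hd⟩ := hP.mul_inv_cancel hc
    have hu : IsUnit c := IsUnit.of_mul_eq_one d hd
    rw [eq_top_iff, le_genLocus_iff, sec_homOf, res_refl]
    exact hg.unit_smul hu

/-- A section which generates at one point of the image of a scheme with constant functions generates along this image, if the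
module is isomorphic to one with a section which generates along the image. -/
theorem range_subset_genLocus {P X : Scheme.{u}} (hP : IsField Γ(P, ⊤)) (e : P ⟶ X) {L L' : X.Modules}
    (hL : PicF.IsInvertible L) (hL' : PicF.IsInvertible L') (τ : L ≅ L') (s : Γ(L, ⊤)) (s' : Γ(L', ⊤))
    (hs : Set.range e ⊆ (CohB1.genLocus L (homOf s) : Set X)) (x : P) (hx : e x ∈ CohB1.genLocus L' (homOf s')) :
    Set.range e ⊆ (CohB1.genLocus L' (homOf s') : Set X) := by
  have h1 : e ⁻¹ᵁ (CohB1.genLocus L (homOf s)) = ⊤ := by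
    rw [eq_top_iff]
    intro y _
    exact hs ⟨y, rfl⟩
  rw [← genLocus_pullTop e hL s] at h1
  have h2 : IsGen (pullTop e s) := by
    have h3 := (le_genLocus_iff (homOf (pullTop e s)) ⊤).1 (by rw [h1])
    rwa [sec_homOf, res_refl] at h3
  have h3 := h2.app ((Scheme.Modules.pullback e).mapIso τ).hom
  have h4 := genLocus_of_isField hP h3 (pullTop e s') x (by
    rw [genLocus_pullTop e hL' s']
    exact hx)
  rw [genLocus_pullTop e hL' s'] at h4
  rintro _ ⟨y, rfl⟩
  have h5 : y ∈ e ⁻¹ᵁ (CohB1.genLocus L' (homOf s')) := by rw [h4]; trivial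
  exact h5

end Const

section Line

variable {Ω : Type u} [Field Ω]

theorem isField_P1 : IsField Γ(CohB1.ProjSpace 1 Ω, ⊤) := by
  have h1 : IsIntegral (CohB1.ProjSpace 1 Ω) := inferInstance
  have h2 : IsProper (CohB1.ProjSpace.toSpec 1 Ω) := inferInstance
  exact isField_of_universallyClosed Ω (CohB1.ProjSpace.toSpec 1 Ω)

/-- The generic point of the projective line is not closed. -/
theorem not_isClosed_generic [IrreducibleSpace (CohB1.ProjSpace 1 Ω)] {X : Scheme.{u}} (e : CohB1.ProjSpace 1 Ω ⟶ X)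
    [IsClosedImmersion e] (h : IsClosed ({e (genericPoint (CohB1.ProjSpace 1 Ω))} : Set X)) : False := by
  have h1 : IsClosed ({genericPoint (CohB1.ProjSpace 1 Ω)} : Set (CohB1.ProjSpace 1 Ω)) := by
    have h2 : ({genericPoint (CohB1.ProjSpace 1 Ω)} : Set (CohB1.ProjSpace 1 Ω)) =
        e ⁻¹' {e (genericPoint (CohB1.ProjSpace 1 Ω))} := by
      ext y
      simp only [Set.mem_singleton_iff, Set.mem_preimage]
      exact ⟨fun h => by rw [h], fun h => e.isClosedEmbedding.injective h⟩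
    rw [h2]
    exact h.preimage e.continuous
  have h3 : ({genericPoint (CohB1.ProjSpace 1 Ω)} : Set (CohB1.ProjSpace 1 Ω)) = Set.univ := by
    rw [← h1.closure_eq]
    exact (genericPoint_spec (CohB1.ProjSpace 1 Ω)).def
  have h4 : Subsingleton (CohB1.ProjSpace 1 Ω) := by
    refine ⟨fun a b => ?_⟩
    have ha : a ∈ ({genericPoint (CohB1.ProjSpace 1 Ω)} : Set (CohB1.ProjSpace 1 Ω)) := by rw [h3]; trivial
    have hb : b ∈ ({genericPoint (CohB1.ProjSpace 1 Ω)} : Set (CohB1.ProjSpace 1 Ω)) := by rw [h3]; trivial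
    rw [Set.mem_singleton_iff] at ha hb
    rw [ha, hb]
  have h5 := Groth.Agent.Dix.EtMinF.topologicalKrullDim_P1 Ω
  have h6 : topologicalKrullDim (CohB1.ProjSpace 1 Ω) ≤ 0 := topologicalKrullDim_zero_of_discreteTopology _
  rw [h5] at h6
  exact absurd h6 (by decide)

end Line

section Points

variable {C T : Scheme.{u}} {f : C ⟶ T} {n : ℕ} {σ : Fin n → (T ⟶ C)} (hσ : ∀ j, σ j ≫ f = 𝟙 T)
  {Ω : Type u} [Field Ω] {t : Spec (CommRingCat.of Ω) ⟶ T} {X' : Scheme.{u}} {i : X' ⟶ C}
  {q : X' ⟶ Spec (CommRingCat.of Ω)} (hP : IsPullback i q f t)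

/-- The points of a geometric fibre on a section: only the marked point. -/
theorem eq_markedPt (j : Fin n) (p : X') (hp : i p ∈ Set.range (σ j)) : p = CurvSt.markedPt σ hσ hP j := by
  have h0 : (t ≫ σ j) ≫ f = 𝟙 _ ≫ t := by rw [Category.assoc, hσ, Category.comp_id, Category.id_comp]
  have h1 : hP.lift (t ≫ σ j) (𝟙 _) h0 ≫ q = 𝟙 _ := hP.lift_snd _ _ _
  have h2 : hP.lift (t ≫ σ j) (𝟙 _) h0 ≫ i = t ≫ σ j := hP.lift_fst _ _ _
  have h3 : IsPullback t (hP.lift (t ≫ σ j) (𝟙 _) h0) (σ j) i := by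
    refine IsPullback.of_bot ?_ h2.symm hP
    rw [h1, hσ]
    exact IsPullback.of_vert_isIso ⟨by simp⟩
  obtain ⟨y, hy⟩ := hp
  obtain ⟨z, -, hz⟩ := Scheme.exists_preimage_of_isPullback h3 y p hy
  have h4 : z = IsLocalRing.closedPoint Ω := Subsingleton.elim _ _
  rw [← hz, h4]
  rfl

end Points

section Main

variable {S : Scheme.{u}} {r m : ℕ} {A : CurvSt.PtFamObj S (r + m)}

/-- A component along which the modules are trivial contains none of the points of the divisors. -/
theorem notMem_of_generated (hA : IsPre A) {a : Fin 3 → Fin m → ℕ} (ha : ∀ j, ∃ i, 0 < a i j)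
    {L : Fin 3 → A.C.Modules} {s : ∀ i, Γ(L i, ⊤)} (hinv : ∀ i, PicF.IsInvertible (L i))
    (hgen : ∀ (i : Fin 3) (x : A.C), x ∈ CohB1.genLocus (L i) (homOf (s i)) ↔
      ∀ j, 0 < a i j → x ∉ Set.range (ys A j))
    {Ω : Type u} [Field Ω] [IsAlgClosed Ω] {t : Spec (CommRingCat.of Ω) ⟶ A.base.left} {Xt : Scheme.{u}}
    {i : Xt ⟶ A.C} {q : Xt ⟶ Spec (CommRingCat.of Ω)} (hP : IsPullback i q A.f t)
    (hiso : ∀ j, Nonempty ((Scheme.Modules.pullback i).obj (L 0) ≅ (Scheme.Modules.pullback i).obj (L j)))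
    {E : Set Xt} (hE : CurvSt.IsSmRatComp Ω Xt q E) (s₀ : Γ((Scheme.Modules.pullback i).obj (L 0), ⊤))
    (hs₀ : E ⊆ (CohB1.genLocus _ (homOf s₀) : Set Xt)) (l : Fin m) :
    CurvSt.markedPt A.sect A.sect_f hP (Fin.natAdd r l) ∉ E := by
  obtain ⟨-, e, he, -, hr⟩ := hE
  obtain ⟨j, hj⟩ := ha l
  obtain ⟨τ⟩ := hiso j
  have hint : IsIntegral (CohB1.ProjSpace 1 Ω) := inferInstance
  have hprop := hA.2.1
  have hinv' : ∀ j, PicF.IsInvertible ((Scheme.Modules.pullback i).obj (L j)) := fun j =>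
    isInvertible_pullback i (hinv j)
  have hη : e (genericPoint (CohB1.ProjSpace 1 Ω)) ∈ CohB1.genLocus _ (homOf (pullTop i (s j))) := by
    rw [genLocus_pullTop i (hinv j)]
    refine (hgen j _).2 fun l' _ hl' => ?_
    have h1 := eq_markedPt A.sect_f hP _ _ hl'
    have h2 := K901.SchPre.isClosed_markedPt A.f A.sect A.sect_f hP (Fin.natAdd r l')
    rw [← h1] at h2
    exact not_isClosed_generic e h2
  have h1 := range_subset_genLocus isField_P1 e (hinv' 0) (hinv' j) τ s₀ (pullTop i (s j))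
    (by rw [hr]; exact hs₀) _ hη
  rw [hr] at h1
  intro hl
  have h2 := h1 hl
  rw [genLocus_pullTop i (hinv j)] at h2
  refine (hgen j _).1 h2 l hj ?_
  rw [K901.SchPre.apply_markedPt]
  exact ⟨_, rfl⟩

/-- Over an open on which the pointed curves are stable and the modules are isomorphic, every component on which they are generated
by one section has three special points. -/
theorem triv3_of_iso (hA : IsPre A) {a : Fin 3 → Fin m → ℕ} (ha : ∀ j, ∃ i, 0 < a i j)
    {L : Fin 3 → A.C.Modules} {s : ∀ i, Γ(L i, ⊤)} (hinv : ∀ i, PicF.IsInvertible (L i))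
    (hgen : ∀ (i : Fin 3) (x : A.C), x ∈ CohB1.genLocus (L i) (homOf (s i)) ↔
      ∀ j, 0 < a i j → x ∉ Set.range (ys A j)) (V : A.base.left.Opens)
    (hV : (V : Set A.base.left) ⊆ K901.SchLoc.Loc (K333.StableOpen.StabProp (r + m) 0) A.f A.sect A.sect_f)
    (hiso : ∀ j, Nonempty ((Scheme.Modules.pullback (A.f ⁻¹ᵁ V).ι).obj (L 0) ≅
      (Scheme.Modules.pullback (A.f ⁻¹ᵁ V).ι).obj (L j))) : Triv3 A V (L 0) := by
  intro Ω _ _ t Xt i q hP E ht hE hs
  obtain ⟨s₀, hs₀⟩ := hs
  have hst := hV ht Ω t rfl Xt i q hP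
  have hi : Set.range i ⊆ Set.range (A.f ⁻¹ᵁ V).ι := by
    rw [Scheme.Opens.range_ι]
    rintro _ ⟨x, rfl⟩
    have h1 : A.f (i x) = t (q x) := by
      rw [← Scheme.Hom.comp_apply, hP.w, Scheme.Hom.comp_apply]
    have h2 : q x = IsLocalRing.closedPoint Ω := Subsingleton.elim _ _
    change A.f (i x) ∈ V
    rw [h1, h2]
    exact ht
  have hfac : IsOpenImmersion.lift (A.f ⁻¹ᵁ V).ι i hi ≫ (A.f ⁻¹ᵁ V).ι = i := IsOpenImmersion.lift_fac _ _ _
  have hiso' : ∀ j, Nonempty ((Scheme.Modules.pullback i).obj (L 0) ≅ (Scheme.Modules.pullback i).obj (L j)) := by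
    intro j
    obtain ⟨τ⟩ := hiso j
    have e : ∀ M : A.C.Modules, Nonempty ((Scheme.Modules.pullback (IsOpenImmersion.lift (A.f ⁻¹ᵁ V).ι i hi)).obj
        ((Scheme.Modules.pullback (A.f ⁻¹ᵁ V).ι).obj M) ≅ (Scheme.Modules.pullback i).obj M) := fun M =>
      ⟨(Scheme.Modules.pullbackComp _ _).app M ≪≫ (Scheme.Modules.pullbackCongr hfac).app M⟩
    obtain ⟨e0⟩ := e (L 0)
    obtain ⟨ej⟩ := e (L j)
    exact ⟨e0.symm ≪≫ (Scheme.Modules.pullback _).mapIso τ ≪≫ ej⟩
  have hno := notMem_of_generated hA ha hinv hgen hP hiso' hE s₀ hs₀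
  have h3 := hst.2.2.2.2.2.2.1 E hE
  have h4 : Nat.card {j : Fin (r + m) // CurvSt.markedPt A.sect A.sect_f hP j ∈ E} =
      Nat.card {j : Fin r // CurvSt.markedPt A.sect A.sect_f hP (Fin.castAdd m j) ∈ E} := by
    symm
    refine Nat.card_congr (Equiv.ofBijective (fun j => ⟨Fin.castAdd m j.1, j.2⟩) ⟨?_, ?_⟩)
    · intro x y hxy
      have h5 := congrArg Subtype.val hxy
      exact Subtype.ext (Fin.castAdd_injective r m h5)
    · rintro ⟨x, hx⟩
      induction x using Fin.addCases with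
      | left x => exact ⟨⟨x, hx⟩, rfl⟩
      | right x => exact absurd hx (hno x)
  rw [h4] at h3
  exact h3

/-- Near a point at which the pointed curve is stable, and over which the modules are isomorphic, every component on which they
are generated by one section has three special points. -/
theorem triv3_near_of (hA : IsPre A) {a : Fin 3 → Fin m → ℕ} (ha : ∀ j, ∃ i, 0 < a i j)
    {L : Fin 3 → A.C.Modules} {s : ∀ i, Γ(L i, ⊤)} (hinv : ∀ i, PicF.IsInvertible (L i))
    (hgen : ∀ (i : Fin 3) (x : A.C), x ∈ CohB1.genLocus (L i) (homOf (s i)) ↔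
      ∀ j, 0 < a i j → x ∉ Set.range (ys A j))
    {Ω : Type u} [Field Ω] [IsAlgClosed Ω] (t : Spec (CommRingCat.of Ω) ⟶ A.base.left) {Xt : Scheme.{u}}
    (i : Xt ⟶ A.C) (q : Xt ⟶ Spec (CommRingCat.of Ω)) (hP : IsPullback i q A.f t)
    (hst : CurvSt.IsStablePtd Ω Xt q 0 (CurvSt.markedPt A.sect A.sect_f hP))
    (hiso : ∀ j, ∃ V : A.base.left.Opens, t (IsLocalRing.closedPoint Ω) ∈ V ∧
      Nonempty ((Scheme.Modules.pullback (A.f ⁻¹ᵁ V).ι).obj (L 0) ≅
        (Scheme.Modules.pullback (A.f ⁻¹ᵁ V).ι).obj (L j))) :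
    ∃ V : A.base.left.Opens, t (IsLocalRing.closedPoint Ω) ∈ V ∧ Triv3 A V (L 0) := by
  obtain ⟨h1, h2, h3, -⟩ := id hA
  choose V hV hVi using hiso
  let W : A.base.left.Opens :=
    ⟨K901.SchLoc.Loc (K333.StableOpen.StabProp (r + m) 0) A.f A.sect A.sect_f,
      K333.StableOpen.isOpen_stable A.f A.sect A.sect_f 0⟩ ⊓ V 0 ⊓ V 1 ⊓ V 2
  have hW : ∀ j, W ≤ V j := by
    intro j
    fin_cases j
    · exact (inf_le_left.trans inf_le_left).trans inf_le_right
    · exact inf_le_left.trans inf_le_right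
    · exact inf_le_right
  refine ⟨W, ⟨⟨⟨(K333.StableOpen.isStablePtd_iff A.f A.sect A.sect_f 0 hP).1 hst, hV 0⟩, hV 1⟩, hV 2⟩,
    triv3_of_iso hA ha hinv hgen W (fun x hx => hx.1.1.1) fun j => ?_⟩
  obtain ⟨τ⟩ := hVi j
  let b : (A.f ⁻¹ᵁ W).toScheme ⟶ (A.f ⁻¹ᵁ V j).toScheme := A.C.homOfLE (A.f.preimage_mono (hW j))
  have hb : b ≫ (A.f ⁻¹ᵁ V j).ι = (A.f ⁻¹ᵁ W).ι := Scheme.homOfLE_ι _ _
  have e : ∀ M : A.C.Modules, Nonempty ((Scheme.Modules.pullback b).obj
      ((Scheme.Modules.pullback (A.f ⁻¹ᵁ V j).ι).obj M) ≅ (Scheme.Modules.pullback (A.f ⁻¹ᵁ W).ι).obj M) := fun M =>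
    ⟨(Scheme.Modules.pullbackComp _ _).app M ≪≫ (Scheme.Modules.pullbackCongr hb).app M⟩
  obtain ⟨e0⟩ := e (L 0)
  obtain ⟨ej⟩ := e (L j)
  exact ⟨e0.symm ≪≫ (Scheme.Modules.pullback _).mapIso τ ≪≫ ej⟩

end Main

end K203.KonStab
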