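import Groth.Agent.Fano.K203.KonStab

/-!
# Node M2 of the plan for the linear charts (S16940)

* `mem_genLocus_iff`, `mem_support_dI`, `mem_genLocus_dI`: the points at which the section of `O(D)` generates;
* `triv3_near`: node M2, from isomorphisms near the point (node B1);
* `Triv3.pull`: the condition `Triv3` under a morphism of families; `triv3_top_iff`: the field `stab` of a chart.
-/

set_option autoImplicit false

universe u

open CategoryTheory CategoryTheory.Limits AlgebraicGeometry TopologicalSpace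

namespace K203.KonTriv

open K390.PnSec Groth.Agent.Fdesc.LocGen K505.KonDef K723.LinDef

section OD

variable {C T : Scheme.{u}}

/-- The section of `O(D)` generates away from `D`. -/
theorem mem_genLocus_iff {D : C.IdealSheafData} {L : C.Modules} {s : Γ(L, ⊤)} (h : IsO D L s) (x : C) :
    x ∈ CohB1.genLocus L (homOf s) ↔ x ∉ (D.support : Set C) := by
  obtain ⟨U, e, hx, he⟩ := (isInvertible_iff L).1 h.inv x
  obtain ⟨V, hV, hxV, hVU⟩ := exists_isAffineOpen_mem_and_subset (x := x) (U := U) hx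
  have he' := he.res hVU
  obtain ⟨b, hb⟩ := he'.exists_eq (res L le_top s)
  have h1 := genLocus_inf_eq (homOf s) he' ((sec_homOf _ _).trans hb)
  have h2 := h.ideal ⟨V, hV⟩ _ b he' hb
  have h3 : x ∈ (D.support : Set C) ↔ x ∈ C.zeroLocus (U := V) (D.ideal ⟨V, hV⟩) :=
    Scheme.IdealSheafData.mem_support_iff_of_mem (U := ⟨V, hV⟩) hxV
  have h4 : x ∈ CohB1.genLocus L (homOf s) ↔ x ∈ C.basicOpen b := by
    rw [← h1]
    exact ⟨fun h => ⟨h, hxV⟩, fun h => h.1⟩
  rw [h3, h4, h2, Scheme.zeroLocus_span, Scheme.zeroLocus_singleton, Set.mem_compl_iff, not_not]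
  rfl

theorem mem_support_prod {ι : Type*} (I : ι → C.IdealSheafData) (s : Finset ι) (x : C) :
    x ∈ ((∏ i ∈ s, I i).support : Set C) ↔ ∃ i ∈ s, x ∈ ((I i).support : Set C) := by
  classical
  induction s using Finset.induction_on with
  | empty =>
    rw [Finset.prod_empty]
    have h : ((1 : C.IdealSheafData).support : Set C) = ∅ := rfl
    rw [h]
    simp
  | insert a s ha ih =>
    rw [Finset.prod_insert ha, Scheme.IdealSheafData.support_mul]
    simp only [Finset.mem_insert, exists_eq_or_imp]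
    rw [← ih]
    rfl

/-- The support of the divisor of the sections. -/
theorem mem_support_dI (f : C ⟶ T) [IsSeparated f] {m : ℕ} (y : Fin m → (T ⟶ C)) (hy : ∀ j, y j ≫ f = 𝟙 T)
    (a : Fin m → ℕ) (x : C) : x ∈ ((dI y a).support : Set C) ↔ ∃ j, 0 < a j ∧ x ∈ Set.range (y j) := by
  rw [dI, mem_support_prod]
  have hc : ∀ j, IsClosedImmersion (y j) := fun j => by
    have : IsClosedImmersion (y j ≫ f) := by rw [hy]; infer_instance
    exact IsClosedImmersion.of_comp (y j) f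
  refine exists_congr fun j => ?_
  have h1 := hc j
  have h2 : ((y j).ker.support : Set C) = Set.range (y j) := by
    rw [Scheme.Hom.support_ker, (y j).isClosedEmbedding.isClosed_range.closure_eq]
  constructor
  · rintro ⟨-, hx⟩
    by_cases ha : a j = 0
    · rw [ha, pow_zero] at hx
      exact absurd hx (Set.notMem_empty x)
    · rw [Scheme.IdealSheafData.support_pow _ _ ha, h2] at hx
      exact ⟨Nat.pos_of_ne_zero ha, hx⟩
  · rintro ⟨ha, hx⟩
    rw [Scheme.IdealSheafData.support_pow _ _ ha.ne', h2]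
    exact ⟨Finset.mem_univ _, hx⟩

/-- The section of the module of the divisor of the sections generates away from the sections. -/
theorem mem_genLocus_dI (f : C ⟶ T) [IsSeparated f] {m : ℕ} {y : Fin m → (T ⟶ C)} (hy : ∀ j, y j ≫ f = 𝟙 T)
    {a : Fin m → ℕ} {L : C.Modules} {s : Γ(L, ⊤)} (h : IsO (dI y a) L s) (x : C) :
    x ∈ CohB1.genLocus L (homOf s) ↔ ∀ j, 0 < a j → x ∉ Set.range (y j) := by
  rw [mem_genLocus_iff h, mem_support_dI f y hy]
  push Not
  rfl

end OD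

section Main

variable {S : Scheme.{u}} {r m : ℕ} {A : CurvSt.PtFamObj S (r + m)}

/-- The points at which the sections of the modules of the three divisors generate. -/
theorem gen_iff (hA : IsPre A) {a : Fin 3 → Fin m → ℕ} {L : Fin 3 → A.C.Modules} {s : ∀ i, Γ(L i, ⊤)}
    (hL : ∀ i, IsO (dI (ys A) (a i)) (L i) (s i)) (i : Fin 3) (x : A.C) :
    x ∈ CohB1.genLocus (L i) (homOf (s i)) ↔ ∀ j, 0 < a i j → x ∉ Set.range (ys A j) := by
  have h1 := hA.2.1
  exact mem_genLocus_dI A.f (fun j => A.sect_f _) (hL i) x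

/-- Node M2, with isomorphisms near the point. -/
theorem triv3_near_of_iso (hA : IsPre A) (a : Fin 3 → Fin m → ℕ)
    (ha : ∀ j, ∃ i, 0 < a i j) (L : Fin 3 → A.C.Modules) (s : ∀ i, Γ(L i, ⊤))
    (hL : ∀ i, IsO (dI (ys A) (a i)) (L i) (s i))
    {Ω : Type u} [Field Ω] [IsAlgClosed Ω] (t : Spec (CommRingCat.of Ω) ⟶ A.base.left) {Xt : Scheme.{u}}
    (i : Xt ⟶ A.C) (q : Xt ⟶ Spec (CommRingCat.of Ω)) (hP : IsPullback i q A.f t)
    (hst : CurvSt.IsStablePtd Ω Xt q 0 (CurvSt.markedPt A.sect A.sect_f hP))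
    (hiso : ∀ j, ∃ V : A.base.left.Opens, t (IsLocalRing.closedPoint Ω) ∈ V ∧
      Nonempty ((Scheme.Modules.pullback (A.f ⁻¹ᵁ V).ι).obj (L j) ≅
        (Scheme.Modules.pullback (A.f ⁻¹ᵁ V).ι).obj (L 0))) :
    ∃ V : A.base.left.Opens, t (IsLocalRing.closedPoint Ω) ∈ V ∧ Triv3 A V (L 0) :=
  KonStab.triv3_near_of hA ha (fun i => (hL i).inv) (gen_iff hA hL) t i q hP hst fun j => by
    obtain ⟨V, hV, ⟨τ⟩⟩ := hiso j
    exact ⟨V, hV, ⟨τ.symm⟩⟩

/-- Stable families with isomorphic modules: no shrinking. -/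
theorem triv3_of_stable (hst : CurvSt.IsStableFam A.f A.sect A.sect_f 0) (a : Fin 3 → Fin m → ℕ)
    (ha : ∀ j, ∃ i, 0 < a i j) (L : Fin 3 → A.C.Modules) (s : ∀ i, Γ(L i, ⊤))
    (hL : ∀ i, IsO (dI (ys A) (a i)) (L i) (s i)) (V : A.base.left.Opens)
    (hiso : ∀ j, Nonempty ((Scheme.Modules.pullback (A.f ⁻¹ᵁ V).ι).obj (L j) ≅
        (Scheme.Modules.pullback (A.f ⁻¹ᵁ V).ι).obj (L 0))) : Triv3 A V (L 0) := by
  have hA : IsPre A := ⟨hst.1, hst.2.1, hst.2.2.1, fun Ω _ _ t Xt i q hP =>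
    have h := hst.2.2.2 Ω t Xt i q hP
    ⟨h.1, h.2.1, h.2.2.1, h.2.2.2.1, h.2.2.2.2.1, h.2.2.2.2.2.1⟩⟩
  refine KonStab.triv3_of_iso hA ha (fun i => (hL i).inv) (gen_iff hA hL) V ?_ fun j => ?_
  · intro x _ Ω _ _ t _ Xt i q hP
    exact hst.2.2.2 Ω t Xt i q hP
  · obtain ⟨τ⟩ := hiso j
    exact ⟨τ.symm⟩

end Main

section Pull

variable {S : Scheme.{u}} {r m : ℕ} {A A' : CurvSt.PtFamObj S (r + m)}

/-- `Triv3` under a morphism of families, and an isomorphism of the module. -/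
theorem Triv3.pull {V : A.base.left.Opens} {L : A.C.Modules} (hT : Triv3 A V L) (h : A' ⟶ A)
    {V' : A'.base.left.Opens} (hV : ∀ x ∈ V', h.base.left x ∈ V) {L' : A'.C.Modules}
    (τ : L' ≅ (Scheme.Modules.pullback h.top).obj L) : Triv3 A' V' L' := by
  intro Ω _ _ t Xt i q hP E ht hE hs
  obtain ⟨s₀, hs₀⟩ := hs
  have hsq : IsPullback h.top A'.f A.f h.base.left := h.cart
  have hm : CurvSt.markedPt A'.sect A'.sect_f hP = CurvSt.markedPt A.sect A.sect_f (hP.paste_horiz hsq) := by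
    funext j
    refine (K901.SchLoc.markedPt_eq_of A.f A.sect A.sect_f (hP.paste_horiz hsq) j
      (hP.lift (t ≫ A'.sect j) (𝟙 _) (by rw [Category.assoc, A'.sect_f, Category.comp_id, Category.id_comp]))
      ?_ (hP.lift_snd _ _ _)).symm
    rw [hP.lift_fst_assoc, Category.assoc, Category.assoc, h.w_sect]
  rw [hm]
  refine hT Ω (t ≫ h.base.left) Xt (i ≫ h.top) q (hP.paste_horiz hsq) E (hV _ ht) hE ?_
  let e : (Scheme.Modules.pullback i).obj L' ≅ (Scheme.Modules.pullback (i ≫ h.top)).obj L :=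
    (Scheme.Modules.pullback i).mapIso τ ≪≫ (Scheme.Modules.pullbackComp i h.top).app L
  refine ⟨e.hom.app ⊤ s₀, ?_⟩
  rw [genLocus_app]
  exact hs₀

/-- The field `stab` of a chart. -/
theorem stab_of_triv3 {L : A.C.Modules} {V : A.base.left.Opens} (hV : V = ⊤) (hT : Triv3 A V L) :
    ∀ (Ω : Type u) [Field Ω] [IsAlgClosed Ω] (t : Spec (CommRingCat.of Ω) ⟶ A.base.left) (Xt : Scheme.{u})
    (i : Xt ⟶ A.C) (q : Xt ⟶ Spec (CommRingCat.of Ω)) (hP : IsPullback i q A.f t) (E : Set Xt),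
    CurvSt.IsSmRatComp Ω Xt q E →
    (∃ s : Γ((Scheme.Modules.pullback i).obj L, ⊤), E ⊆ (CohB1.genLocus _ (homOf s) : Set Xt)) →
    (3 : ℕ∞) ≤ (CurvSt.meetPts Xt E).encard +
      (Nat.card {j : Fin r // CurvSt.markedPt A.sect A.sect_f hP (Fin.castAdd m j) ∈ E} : ℕ∞) := by
  subst hV
  intro Ω _ _ t Xt i q hP E hE hs
  exact hT Ω t Xt i q hP E trivial hE hs

end Pull

end K203.KonTriv
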