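import Groth.Agent.Fano.K496.QuintDat

/-!
# Syzygies of low degree of a nondegenerate quintic (node Q5-4)

* `eq_zero_of_low`: no syzygies of degree `≤ 1` of the derivatives of a nondegenerate quintic;
* `not_common_zero`: two vectors of minimal degrees in a saturated module of rank two have no common zeros of their minors;
* `nondeg`: node Q5-4.
-/

set_option autoImplicit false

namespace K203.Nondeg

open MvPolynomial K713.BinFactor K496.BinAlg

variable {k : Type*} [Field k]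

section Low

/-- No syzygies of degree at most one. -/
theorem eq_zero_of_low [CharZero k] {c : Fin 5 → MvPolynomial (Fin 2) k} (hc : ∀ a, (c a).IsHomogeneous 5)
    (hli : LinearIndependent k c) {w : Fin 5 → MvPolynomial (Fin 2) k} {n : ℕ} (hn : n ≤ 1)
    (hw : ∀ a, (w a).IsHomogeneous n) (h : ∀ i, ∑ a, w a * pderiv i (c a) = 0) : w = 0 := by
  have h5 : (5 : MvPolynomial (Fin 2) k) ≠ 0 := by
    have : ((5 : ℕ) : MvPolynomial (Fin 2) k) ≠ 0 := Nat.cast_ne_zero.2 (by norm_num)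
    exact_mod_cast this
  have hwc : ∑ a, w a * c a = 0 := by
    apply mul_left_cancel₀ h5
    rw [mul_zero, Finset.mul_sum]
    have h1 : ∀ a, (5 : MvPolynomial (Fin 2) k) * (w a * c a) =
        X 0 * (w a * pderiv 0 (c a)) + X 1 * (w a * pderiv 1 (c a)) := by
      intro a
      have := euler (hc a)
      push_cast at this
      linear_combination (-w a) * this
    rw [Finset.sum_congr rfl fun a _ => h1 a, Finset.sum_add_distrib, ← Finset.mul_sum, ← Finset.mul_sum, h 0, h 1]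
    ring
  -- constants
  have hconst : ∀ κ : Fin 5 → MvPolynomial (Fin 2) k, (∀ a, (κ a).IsHomogeneous 0) → ∑ a, κ a * c a = 0 →
      ∀ a, κ a = 0 := by
    intro κ hκ hs a
    choose κ' hκ' using fun a => eq_C_of_isHomogeneous_zero (hκ a)
    have h1 := Fintype.linearIndependent_iff.1 hli κ' (by
      rw [← hs]
      exact Finset.sum_congr rfl fun a _ => by rw [hκ' a, smul_eq_C_mul]) a
    rw [hκ' a, h1, map_zero]
  rcases n with _ | n
  · funext a
    exact hconst w hw hwc a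
  · have hn0 : n = 0 := by omega
    subst hn0
    have hd : ∀ i a, pderiv i (w a) = 0 := by
      intro i
      refine hconst (fun a => pderiv i (w a)) (fun a => isHomogeneous_pderiv (hw a) i) ?_
      have h1 := congrArg (pderiv i) hwc
      rw [map_sum, map_zero] at h1
      simp only [pderiv_mul] at h1
      rw [Finset.sum_add_distrib, h i, add_zero] at h1
      exact h1
    funext a
    have h1 := euler (hw a)
    rw [hd, hd] at h1
    simpa using h1.symm

end Low

section Rank2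

variable {v : Fin 5 → Fin 5 → MvPolynomial (Fin 2) k}

/-- The vectors `w` with `w ∧ v = 0`. -/
def InM (v : Fin 5 → Fin 5 → MvPolynomial (Fin 2) k) (w : Fin 5 → MvPolynomial (Fin 2) k) : Prop :=
  ∀ a b d, w a * v b d - w b * v a d + w d * v a b = 0

/-- The minors of two vectors. -/
noncomputable def mi (w w' : Fin 5 → MvPolynomial (Fin 2) k) (ab : Fin 5 × Fin 5) : MvPolynomial (Fin 2) k :=
  w ab.1 * w' ab.2 - w ab.2 * w' ab.1

/-- The minors of two vectors are proportional to `v`. -/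
theorem minors_prop {w w' : Fin 5 → MvPolynomial (Fin 2) k} (h : InM v w) (h' : InM v w') (x y : Fin 5 × Fin 5) :
    v x.1 x.2 * mi w w' y = v y.1 y.2 * mi w w' x := by
  obtain ⟨c, d⟩ := x
  obtain ⟨a, b⟩ := y
  simp only [mi]
  linear_combination (w' b) * h a c d - (w' a) * h b c d + (- w c) * h' a b d + (w d) * h' a b c

theorem InM.of_mul {w : Fin 5 → MvPolynomial (Fin 2) k} {l : MvPolynomial (Fin 2) k} (hl : l ≠ 0)
    (h : InM v (fun a => l * w a)) : InM v w := by
  intro a b d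
  apply mul_left_cancel₀ hl
  have := h a b d
  rw [mul_zero]
  linear_combination this

theorem InM.sub_mul {w w' : Fin 5 → MvPolynomial (Fin 2) k} (q : MvPolynomial (Fin 2) k)
    (h : InM v w) (h' : InM v w') : InM v (fun a => w a - q * w' a) := by
  intro a b d
  linear_combination h a b d - q * h' a b d

/-- There are elements of minimal degree with minors without common zeros. -/
theorem exists_prim [IsAlgClosed k] {m : ℕ} (hv : ∀ a b, (v a b).IsHomogeneous m)
    (hrow : ∀ e, InM v (fun a => v a e)) (hskew : ∀ a b, v a b = - v b a) (hdiag : ∀ a, v a a = 0)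
    (hne : ∃ a b, v a b ≠ 0) :
    ∃ (m₁ m₂ : ℕ) (w₁ w₂ : Fin 5 → MvPolynomial (Fin 2) k), (∀ a, (w₁ a).IsHomogeneous m₁) ∧
      (∀ a, (w₂ a).IsHomogeneous m₂) ∧ InM v w₁ ∧ InM v w₂ ∧ w₁ ≠ 0 ∧ w₂ ≠ 0 ∧
      ∀ P : Fin 2 → k, P ≠ 0 → ∃ x, eval P (mi w₁ w₂ x) ≠ 0 := by
  classical
  obtain ⟨a₀, b₀, h₀⟩ := hne
  have hex1 : ∃ n, ∃ w : Fin 5 → MvPolynomial (Fin 2) k, (∀ a, (w a).IsHomogeneous n) ∧ InM v w ∧ w ≠ 0 :=
    ⟨m, fun a => v a b₀, fun a => hv a b₀, hrow b₀, fun h => h₀ (congrFun h a₀)⟩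
  obtain ⟨w₁, hw₁, hM₁, hz₁⟩ := Nat.find_spec hex1
  have hmin₁ : ∀ n < Nat.find hex1, ¬ ∃ w : Fin 5 → MvPolynomial (Fin 2) k, (∀ a, (w a).IsHomogeneous n) ∧
      InM v w ∧ w ≠ 0 := fun n hn => Nat.find_min hex1 hn
  generalize hm1 : Nat.find hex1 = m₁ at hw₁ hmin₁
  have hex2 : ∃ n, ∃ w : Fin 5 → MvPolynomial (Fin 2) k, (∀ a, (w a).IsHomogeneous n) ∧ InM v w ∧
      ∃ x, mi w₁ w x ≠ 0 := by
    by_contra hcon
    push Not at hcon
    have ha := hcon m (fun a => v a a₀) (fun a => hv a a₀) (hrow a₀)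
    have hb := hcon m (fun a => v a b₀) (fun a => hv a b₀) (hrow b₀)
    simp only [mi] at ha hb
    have hba : v b₀ a₀ ≠ 0 := by
      rw [hskew]
      exact neg_ne_zero.2 h₀
    apply hz₁
    -- the coordinate at `b₀`
    have e1 : w₁ b₀ = 0 := by
      have h1 := hb (a₀, b₀)
      simp only at h1
      rw [hdiag, mul_zero, zero_sub, neg_eq_zero] at h1
      exact (mul_eq_zero.1 h1).resolve_right h₀
    funext d
    have h1 := ha (d, b₀)
    simp only at h1
    rw [e1, zero_mul, sub_zero] at h1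
    exact (mul_eq_zero.1 h1).resolve_right hba
  obtain ⟨w₂, hw₂, hM₂, hz₂⟩ := Nat.find_spec hex2
  have hmin₂ : ∀ n < Nat.find hex2, ¬ ∃ w : Fin 5 → MvPolynomial (Fin 2) k, (∀ a, (w a).IsHomogeneous n) ∧
      InM v w ∧ ∃ x, mi w₁ w x ≠ 0 := fun n hn => Nat.find_min hex2 hn
  generalize hm2 : Nat.find hex2 = m₂ at hw₂ hmin₂
  have hw₂0 : w₂ ≠ 0 := by
    rintro rfl
    obtain ⟨x, hx⟩ := hz₂
    apply hx
    simp [mi]
  have hle : m₁ ≤ m₂ := by
    by_contra hlt
    exact hmin₁ m₂ (by omega) ⟨w₂, hw₂, hM₂, hw₂0⟩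
  refine ⟨m₁, m₂, w₁, w₂, hw₁, hw₂, hM₁, hM₂, hz₁, hw₂0, fun P hP => ?_⟩
  by_contra hcon
  push Not at hcon
  -- division by the linear form of `P`
  have hdiv : ∀ (n : ℕ) (w : Fin 5 → MvPolynomial (Fin 2) k), (∀ a, (w a).IsHomogeneous n) → InM v w → w ≠ 0 →
      (∀ a, eval P (w a) = 0) → ∃ (n' : ℕ) (w' : Fin 5 → MvPolynomial (Fin 2) k), n = n' + 1 ∧
        (∀ a, (w' a).IsHomogeneous n') ∧ InM v w' ∧ ∀ a, w a = lin P * w' a := by
    intro n w hw hM hw0 hz
    rcases n with _ | n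
    · exfalso
      apply hw0
      funext a
      obtain ⟨κ, hκ⟩ := eq_C_of_isHomogeneous_zero (hw a)
      have h1 := hz a
      rw [hκ, eval_C] at h1
      rw [hκ, h1, map_zero]
      rfl
    · choose w' hw' he using fun a => exists_lin_mul (hw a) hP (hz a)
      refine ⟨n, w', rfl, hw', ?_, he⟩
      refine InM.of_mul (lin_ne_zero hP) ?_
      have h1 : (fun a => lin P * w' a) = w := funext fun a => (he a).symm
      rw [h1]
      exact hM
  by_cases hP1 : ∀ a, eval P (w₁ a) = 0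
  · obtain ⟨n', w', hn, hw', hM', he⟩ := hdiv m₁ w₁ hw₁ hM₁ hz₁ hP1
    refine hmin₁ n' (by omega) ⟨w', hw', hM', ?_⟩
    rintro rfl
    apply hz₁
    funext a
    rw [he a]
    simp
  · push Not at hP1
    obtain ⟨a₁, ha₁⟩ := hP1
    obtain ⟨Q, hQ⟩ : ∃ Q : Fin 2 → k, eval P (lin Q) ≠ 0 := by
      by_cases h0 : P 0 = 0
      · refine ⟨![1, 0], ?_⟩
        rw [eval_lin]
        have h1 : P 1 ≠ 0 := by
          intro h1
          apply hP
          ext i
          fin_cases i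
          exacts [h0, h1]
        simpa using h1
      · refine ⟨![0, 1], ?_⟩
        rw [eval_lin]
        simpa using h0
    obtain ⟨e, rfl⟩ : ∃ e, m₂ = m₁ + e := ⟨m₂ - m₁, by omega⟩
    let μ : k := eval P (w₂ a₁) / (eval P (w₁ a₁) * eval P (lin Q) ^ e)
    let q : MvPolynomial (Fin 2) k := C μ * lin Q ^ e
    have hq : q.IsHomogeneous e := by
      have h1 := (isHomogeneous_C (Fin 2) μ).mul ((isHomogeneous_lin Q).pow e)
      simpa using h1
    let w : Fin 5 → MvPolynomial (Fin 2) k := fun a => w₂ a - q * w₁ a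
    have hw : ∀ a, (w a).IsHomogeneous (m₁ + e) := by
      intro a
      refine (hw₂ a).sub ?_
      have h1 := hq.mul (hw₁ a)
      rwa [add_comm] at h1
    have hM : InM v w := hM₂.sub_mul q hM₁
    have hmi : ∀ x, mi w₁ w x = mi w₁ w₂ x := by
      intro x
      simp only [mi, w]
      ring
    have hwz : ∀ a, eval P (w a) = 0 := by
      intro a
      have h1 := hcon (a₁, a)
      simp only [mi, map_sub, map_mul] at h1
      have h2 : eval P (lin Q) ^ e ≠ 0 := pow_ne_zero _ hQ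
      simp only [w, q, μ, map_sub, map_mul, eval_C, map_pow]
      field_simp
      linear_combination h1
    have hw0 : w ≠ 0 := by
      intro h0
      obtain ⟨x, hx⟩ := hz₂
      apply hx
      rw [← hmi, h0]
      simp [mi]
    obtain ⟨n', w', hn, hw', hM', he⟩ := hdiv _ w hw hM hw0 hwz
    refine hmin₂ n' (by omega) ⟨w', hw', hM', ?_⟩
    obtain ⟨x, hx⟩ := hz₂
    refine ⟨x, fun h0 => hx ?_⟩
    rw [← hmi]
    have h1 : mi w₁ w x = lin P * mi w₁ w' x := by
      simp only [mi, he]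
      ring
    rw [h1, h0, mul_zero]

end Rank2

section Main

variable [IsAlgClosed k] [CharZero k]

/-- Node Q5-4. -/
theorem nondeg {c : Fin 5 → MvPolynomial (Fin 2) k} (hc : ∀ a, (c a).IsHomogeneous 5) (hli : LinearIndependent k c)
    {m : ℕ} (hm : m ≤ 3) {v : Fin 5 → Fin 5 → MvPolynomial (Fin 2) k} (hv : ∀ a b, (v a b).IsHomogeneous m)
    {p g : Fin 5 → MvPolynomial (Fin 2) k} {u : MvPolynomial (Fin 2) k}
    (hpg : ∀ a b, p b * g a - p a * g b = u * v a b) (hne : ∃ a b, u * v a b ≠ 0)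
    (hp : ∀ i, ∑ a, p a * pderiv i (c a) = 0) (hg : ∀ i, ∑ a, g a * pderiv i (c a) = 0) : False := by
  obtain ⟨a₀, b₀, h₀⟩ := hne
  have hu : u ≠ 0 := left_ne_zero_of_mul h₀
  have hv0 : v a₀ b₀ ≠ 0 := right_ne_zero_of_mul h₀
  have hskew : ∀ a b, v a b = - v b a := by
    intro a b
    apply mul_left_cancel₀ hu
    rw [mul_neg, ← hpg, ← hpg]
    ring
  have hdiag : ∀ a, v a a = 0 := by
    intro a
    apply mul_left_cancel₀ hu
    rw [← hpg]
    ring
  have hrow : ∀ e, InM v (fun a => v a e) := by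
    intro e a b d
    apply mul_left_cancel₀ (mul_ne_zero hu hu)
    have h1 : u * u * (v a e * v b d - v b e * v a d + v d e * v a b) =
        (u * v a e) * (u * v b d) - (u * v b e) * (u * v a d) + (u * v d e) * (u * v a b) := by ring
    simp only
    rw [h1, ← hpg, ← hpg, ← hpg, ← hpg, ← hpg, ← hpg]
    ring
  have hsyz : ∀ b i, ∑ a, v a b * pderiv i (c a) = 0 := by
    intro b i
    apply mul_left_cancel₀ hu
    rw [mul_zero, Finset.mul_sum]
    have h1 : ∀ a, u * (v a b * pderiv i (c a)) =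
        p b * (g a * pderiv i (c a)) - g b * (p a * pderiv i (c a)) := by
      intro a
      linear_combination (-pderiv i (c a)) * hpg a b
    rw [Finset.sum_congr rfl fun a _ => h1 a, Finset.sum_sub_distrib, ← Finset.mul_sum, ← Finset.mul_sum, hp, hg]
    ring
  have hK : ∀ w, InM v w → ∀ i, ∑ a, w a * pderiv i (c a) = 0 := by
    intro w hw i
    apply mul_right_cancel₀ hv0
    rw [zero_mul, Finset.sum_mul]
    have h1 : ∀ a, w a * pderiv i (c a) * v a₀ b₀ =
        w a₀ * (v a b₀ * pderiv i (c a)) - w b₀ * (v a a₀ * pderiv i (c a)) := by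
      intro a
      linear_combination (pderiv i (c a)) * hw a a₀ b₀
    rw [Finset.sum_congr rfl fun a _ => h1 a, Finset.sum_sub_distrib, ← Finset.mul_sum, ← Finset.mul_sum, hsyz, hsyz]
    ring
  obtain ⟨m₁, m₂, w₁, w₂, hw₁, hw₂, hM₁, hM₂, hz₁, hz₂, hprim⟩ := exists_prim hv hrow hskew hdiag ⟨a₀, b₀, hv0⟩
  have h1 : 2 ≤ m₁ := by
    by_contra h
    exact hz₁ (eq_zero_of_low hc hli (by omega) hw₁ (hK w₁ hM₁))
  have h2 : 2 ≤ m₂ := by
    by_contra h
    exact hz₂ (eq_zero_of_low hc hli (by omega) hw₂ (hK w₂ hM₂))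
  have hmi : ∀ x, (mi w₁ w₂ x).IsHomogeneous (m₁ + m₂) := fun x => ((hw₁ _).mul (hw₂ _)).sub ((hw₁ _).mul (hw₂ _))
  rcases exists_mul_of_prim (ι := Fin 5 × Fin 5) (D := mi w₁ w₂) (v := fun x => v x.1 x.2) hmi (fun x => hv _ _)
    (fun x y => minors_prop hM₁ hM₂ x y) hprim with h3 | ⟨e, -, he, -⟩
  · exact hv0 (h3 (a₀, b₀))
  · omega

end Main

end K203.Nondeg
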